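import Cfsg.Agent.H65.Disp.Chev
import Cfsg.Agent.Nodes.RGDTwAll
import Cfsg.Agent.Prune
set_option linter.all false
open scoped Cfsg.Agent.FastGrp

/-!
# Automorphisms of order three of `²E₆(q)` and `³D₄(q)` normalise a `p`-subgroup (helper65)

`exists_inv_twE6`, `exists_inv_twD4` : `x` an automorphism of `²E₆(q)`, `³D₄(q)`, `q` a power of `p`, `x ^ 3 = 1`:
there is a nontrivial `p`-subgroup invariant under `x`.
-/

set_option autoImplicit false
set_option linter.unusedSectionVars false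

namespace Cfsg.Agent.H65.Disp.Twist

open CoxeterSystem Cfsg.Agent.ChevalleyStructure.CoxeterGeom Cfsg.Agent.Tits.Roots Cfsg.Agent.Tits.Core
  Cfsg.Agent.Nodes.Reps Cfsg.Agent.Nodes.BNOf Cfsg.Agent.Nodes.Bruhat Cfsg.Agent.Nodes
  Cfsg.Agent.H65.Disp.Rgd Cfsg.Agent.H65.Disp.Chev
open Cfsg.Lie Cfsg.Agent.ChevalleyStructure.CoxeterGeomTypes

theorem ty_D4 : Ty CoxeterMatrix.G₂ RGDTwD4.A [0, 1] where
  nodup := by decide
  all := by decide
  chk := by decide +kernel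
  chk2 := by decide +kernel
  ne := ⟨0, by decide +kernel⟩
  sym := ty_G2.sym

theorem ty_E6 : Ty CoxeterMatrix.F₄ RGDTwE6.A [0, 2, 1, 3] where
  nodup := by decide
  all := by decide
  chk := by decide +kernel
  chk2 := by decide +kernel
  ne := ⟨0, by decide +kernel⟩
  sym := ty_F4.sym

section

variable {l : ℕ} {W Y : Type*} [Group W] [Group Y] {M : CoxeterMatrix (Fin l)}
  {cs : CoxeterSystem M W} {A : Fin l → Fin l → ℤ} {h : IsCartan M A} {p : ℕ} {T : Subgroup Y} {n : Fin l → Y}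
  {X : (Fin l → ℤ) → Subgroup Y} (R : RGD cs h p T n X)

include R

theorem GG_top_of_G1 (hG : RGDLib.G1 cs h X = ⊤) : GG cs h T X = ⊤ := by
  rw [← top_le_iff, ← hG, RGDLib.G1]
  exact RGD.Sup_le fun _ hx => X_le_GG hx

end

universe u

variable {K : Type u} [Field K] [Fintype K]

/-- **`³D₄(q)`.** -/
theorem exists_inv_twD4 {q : ℕ} (hq : IsPrimePow q) (hK : Fintype.card K = q ^ 3) (p : ℕ) [Fact p.Prime] [CharP K p]
    (x : MulAut ↥(twistedD4 K q)) (hx : x ^ 3 = 1) :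
    ∃ V : Subgroup ↥(twistedD4 K q), V ≠ ⊥ ∧ IsPGroup p V ∧ ∀ v ∈ V, x v ∈ V := by
  obtain ⟨φ, hφ⟩ := Cfsg.Agent.ChevalleyStructure.D4Fixed.exists_frob hq hK
  have hW := RGDFold.finite_W (hp := RGDTwD4.hp) CoxeterMatrix.G₂.toCoxeterSystem RGDTwD4.isCartan RGDTwD4.foldData
  exact exists_inv_of_ty (RGDTwD4.rgd CoxeterMatrix.G₂.toCoxeterSystem hK hφ p)
    (GG_top_of_G1 (RGDTwD4.rgd CoxeterMatrix.G₂.toCoxeterSystem hK hφ p)
      (RGDTwD4.G1_eq_top CoxeterMatrix.G₂.toCoxeterSystem hK hφ)) ty_D4 x hx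

/-- **`²E₆(q)`.** -/
theorem exists_inv_twE6 {q : ℕ} (hq : IsPrimePow q) (hK : Fintype.card K = q ^ 2) (p : ℕ) [Fact p.Prime] [CharP K p]
    (x : MulAut ↥(twistedE6 K q)) (hx : x ^ 3 = 1) :
    ∃ V : Subgroup ↥(twistedE6 K q), V ≠ ⊥ ∧ IsPGroup p V ∧ ∀ v ∈ V, x v ∈ V := by
  obtain ⟨φ, hφ, hqq⟩ := Cfsg.Agent.ChevalleyStructure.TwE6Basic.exists_frob hq hK
  have hW := RGDFold.finite_W (hp := RGDTwE6.hp) CoxeterMatrix.F₄.toCoxeterSystem RGDTwE6.isCartan RGDTwE6.foldData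
  exact exists_inv_of_ty (RGDTwE6.rgd CoxeterMatrix.F₄.toCoxeterSystem hφ hqq p)
    (GG_top_of_G1 (RGDTwE6.rgd CoxeterMatrix.F₄.toCoxeterSystem hφ hqq p)
      (RGDTwE6.G1_eq_top CoxeterMatrix.F₄.toCoxeterSystem hφ hqq)) ty_E6 x hx

end Cfsg.Agent.H65.Disp.Twist

private theorem dce_fa7aa9e411ee : _root_.True := by
  try have : _root_.True := by simp only [_root_.Cfsg.Agent.Nodes.RGDLib.G1.eq_1]
  exact _root_.True.intro
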